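import Cfsg.Agent.Lib.Chev.DiagGroup
import Cfsg.Agent.Lib.Chev.Bruhat

/-!
An element of a product of positive root groups is determined by the columns of the fundamental
coroots; two such elements first differ at a root by a multiple of the Cartan integers.
-/

set_option autoImplicit false

namespace Cfsg.Agent.Lib.ChevCoeff

open Cfsg.Lie Cfsg.Agent.Lib.Chev
open scoped Matrix

variable {D : ChevalleyDatum} {C : Cert} {F : Type*} [Field F]

/-- The entry of a matrix in the row of a root and the column of a fundamental coroot. -/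
def ent (u : GL D.Idx F) (z : Fin D.nroots) (i : Fin D.rank) : F :=
  (u : Matrix D.Idx D.Idx F) (Sum.inr z) (Sum.inl i)

theorem x_inr_inl (h : Checked D C) {r : ℕ} (hr : r < D.nroots) (t : F) (z : Fin D.nroots) (i : Fin D.rank) :
    ent (xGL h F hr t) z i =
      if z.val = r then -(((D.cartanSR.getD i.val #[]).getD r 0 : ℤ) : F) * t else 0 := by
  rw [ent, coe_xGL, ChevalleyDatum.x, dif_pos hr]
  simp [ChevalleyDatum.xMat, Fin.ext_iff]

theorem exists_first_diff (h : Checked D C) (S : Set ℕ) (hS : S ⊆ posSet D) (hcl : ClosedSet D C S)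
    {u v : GL D.Idx F} (hu : u ∈ rootGen D F S) (hv : v ∈ rootGen D F S) (hne : u ≠ v) :
    ∃ k : Fin D.nroots, k.val ∈ S ∧ ∃ c : F, c ≠ 0 ∧ ∀ i : Fin D.rank,
      (∀ z : Fin D.nroots, z < k → ent u z i = ent v z i) ∧
      ent u k i - ent v k i = -(((D.cartanSR.getD i.val #[]).getD k.val 0 : ℤ) : F) * c := by
  classical
  induction hn : S.ncard using Nat.strong_induction_on generalizing S u v with
  | _ n ih =>
    have hfin : S.Finite := (Set.finite_lt_nat D.nroots).subset fun r hr => (hS hr).2
    rcases S.eq_empty_or_nonempty with rfl | hne'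
    · exfalso
      refine hne ?_
      have h0 : ∀ g ∈ rootGen D F (∅ : Set ℕ), g = 1 := by
        intro g hg
        refine Subgroup.mem_bot.1 ((Subgroup.closure_le ⊥).2 ?_ hg)
        rintro x ⟨r, t, hr, -⟩
        exact hr.elim
      rw [h0 u hu, h0 v hv]
    obtain ⟨m, hm, hmin⟩ : ∃ m ∈ S, ∀ s ∈ S, m ≤ s :=
      ⟨Nat.find hne', Nat.find_spec hne', fun s hs => Nat.find_min' hne' hs⟩
    obtain ⟨hcl', hsplit⟩ := h.rootGen_cons (F := F) hS hcl hm hmin
    obtain ⟨t, u', hu', rfl⟩ := (hsplit u).1 hu
    obtain ⟨s, v', hv', rfl⟩ := (hsplit v).1 hv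
    have hlt : (S \ {m}).ncard < n := hn ▸ Set.ncard_sdiff_singleton_lt_of_mem hm hfin
    have hS' : S \ {m} ⊆ posSet D := fun r hr => hS hr.1
    have IH := fun {a b : GL D.Idx F} ha hb hab => ih _ hlt (S \ {m}) hS' hcl' (u := a) (v := b) ha hb hab rfl
    have hzero : ∀ w ∈ rootGen D F (S \ {m}), ∀ (y : Fin D.nroots) (i : Fin D.rank), y.val ≤ m → ent w y i = 0 := by
      intro w hw y i hy
      by_cases hw1 : w = 1
      · simp [hw1, ent]
      · obtain ⟨k, hk, c, -, hc⟩ := IH hw (one_mem _) hw1
        have hmk : m < k.val := lt_of_le_of_ne (hmin _ hk.1) (fun e => hk.2 e.symm)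
        rw [(hc i).1 y (show y.val < k.val by omega)]
        simp [ent]
    have hinl : ∀ w ∈ rootGen D F (S \ {m}), ∀ (j i : Fin D.rank),
        (w : Matrix D.Idx D.Idx F) (Sum.inl j) (Sum.inl i) = if j = i then 1 else 0 := by
      intro w hw j i
      have hwU : w ∈ D.posUnipotent F := by rw [h.posUnipotent_eq]; exact rootGen_mono hS' hw
      have hr := h.raises_of_mem_posUnipotent hwU (Sum.inl j) (Sum.inl i)
      by_contra hcon
      have : ((w : Matrix D.Idx D.Idx F) - 1) (Sum.inl j) (Sum.inl i) ≠ 0 := by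
        rw [Matrix.sub_apply, Matrix.one_apply]
        simp only [Sum.inl.injEq]
        exact sub_ne_zero.2 hcon
      have := hr this
      simp [level] at this
    have hmm : m ∈ posSet D := hS hm
    have hxrow : ∀ (a : F) (z y : Fin D.nroots), D.nroots / 2 ≤ y.val → z.val ≤ y.val →
        (D.x F m a) (Sum.inr z) (Sum.inr y) = if z = y then 1 else 0 := by
      intro a z y hy hzy
      by_contra hcon
      have h1 : (D.x F m a - 1) (Sum.inr z) (Sum.inr y) ≠ 0 := by
        rw [Matrix.sub_apply, Matrix.one_apply]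
        simp only [Sum.inr.injEq]
        exact sub_ne_zero.2 hcon
      have := h.raises_x hmm a (Sum.inr z) (Sum.inr y) h1
      simp only [level] at this
      split_ifs at this <;> omega
    have hprod : ∀ (a : F) (w : GL D.Idx F), w ∈ rootGen D F (S \ {m}) → ∀ (z : Fin D.nroots) (i : Fin D.rank),
        ent (xGL h F (hS hm).2 a * w) z i = ent (xGL h F (hS hm).2 a) z i +
          ∑ y : Fin D.nroots, D.x F m a (Sum.inr z) (Sum.inr y) * ent w y i := by
      intro a w hw z i
      rw [ent, Units.val_mul, Matrix.mul_apply, Fintype.sum_sum_type]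
      congr 1
      rw [Finset.sum_eq_single i]
      · rw [hinl w hw, if_pos rfl, mul_one]; rfl
      · intro j _ hj
        rw [hinl w hw, if_neg hj, mul_zero]
      · simp
    by_cases hts : t = s
    · subst hts
      have hne2 : u' ≠ v' := fun e => hne (by rw [e])
      obtain ⟨k, hk, c, hc0, hc⟩ := IH hu' hv' hne2
      have hmk : m < k.val := lt_of_le_of_ne (hmin _ hk.1) (fun e => hk.2 e.symm)
      refine ⟨k, hk.1, c, hc0, fun i => ?_⟩
      have hd : ∀ z : Fin D.nroots, z ≤ k →
          ent (xGL h F (hS hm).2 t * u') z i - ent (xGL h F (hS hm).2 t * v') z i =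
            if z = k then ent u' k i - ent v' k i else 0 := by
        intro z hz
        rw [hprod t u' hu', hprod t v' hv', add_sub_add_left_eq_sub, ← Finset.sum_sub_distrib,
          Finset.sum_eq_single k]
        · rw [← mul_sub, hxrow t z k (hS hk.1).1 hz]
          split_ifs <;> simp
        · intro y _ hy
          rcases lt_or_gt_of_ne hy with hlt' | hgt
          · rw [(hc i).1 y hlt', sub_self]
          · have hzy : z.val < y.val := lt_of_le_of_lt (Fin.le_def.1 hz) hgt
            rw [hxrow t z y (le_trans (hS hk.1).1 (Fin.le_def.1 hgt.le)) hzy.le,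
              if_neg (Fin.ne_of_val_ne hzy.ne)]
            simp
        · simp
      refine ⟨fun z hz => ?_, ?_⟩
      · have := hd z hz.le
        rwa [if_neg hz.ne, sub_eq_zero] at this
      · rw [hd k le_rfl, if_pos rfl, (hc i).2]
    · refine ⟨⟨m, (hS hm).2⟩, hm, t - s, sub_ne_zero.2 hts, fun i => ?_⟩
      have hd : ∀ (a : F) (w : GL D.Idx F), w ∈ rootGen D F (S \ {m}) → ∀ z : Fin D.nroots, z.val ≤ m →
          ent (xGL h F (hS hm).2 a * w) z i = ent (xGL h F (hS hm).2 a) z i := by
        intro a w hw z hz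
        rw [hprod a w hw, add_eq_left]
        refine Finset.sum_eq_zero fun y _ => ?_
        by_cases hy : y.val ≤ m
        · rw [hzero w hw y i hy, mul_zero]
        · rw [hxrow a z y (le_trans hmm.1 (by omega)) (by omega), if_neg (Fin.ne_of_val_ne (by omega)), zero_mul]
      refine ⟨fun z hz => ?_, ?_⟩
      · rw [hd t u' hu' z (Fin.le_def.1 hz.le), hd s v' hv' z (Fin.le_def.1 hz.le), x_inr_inl, x_inr_inl,
          if_neg (Nat.ne_of_lt hz), if_neg (Nat.ne_of_lt hz)]
      · rw [hd t u' hu' _ le_rfl, hd s v' hv' _ le_rfl, x_inr_inl, x_inr_inl, if_pos rfl, if_pos rfl, mul_sub]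

end Cfsg.Agent.Lib.ChevCoeff
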